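import Groth.Agent.EtSmLib.Core
import Groth.Agent.ASp.EtSmLocalST
import Groth.Agent.ASp.SmLocalST

/-!
Etale-smooth locality on source-and-target from locality on the source, on the base, and postcomposition with open
immersions.
-/

set_option autoImplicit false
set_option backward.isDefEq.respectTransparency false
set_option backward.isDefEq.respectTransparency.types false
universe u

open CategoryTheory CategoryTheory.Limits AlgebraicGeometry Opposite

noncomputable section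

namespace Groth.Agent.EtSmLib

open _root_.AlgSp Groth.Agent.ASp

variable {S : Scheme.{u}} {P : MorphismProperty (Sp S)}

theorem isEtaleMor_comp' {X Y Z : Sp S} {f : X ⟶ Y} {g : Y ⟶ Z} (hf : IsEtaleMor f) (hg : IsEtaleMor g) :
    IsEtaleMor (f ≫ g) := fun U φ hφ => by
  rw [← Category.assoc]
  exact hg _ (hf φ hφ)

theorem isEtaleMor_of_repWith {X Y : Sp S} {f : X ⟶ Y} (hf : RepWith @Etale f) : IsEtaleMor f :=
  fun _ _ hφ => repWith_comp hφ hf

theorem isEtaleMor_baseChange {X Y Z T : Sp S} {f : X ⟶ Y} {g : Z ⟶ Y} {fst : T ⟶ Z} {snd : T ⟶ X}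
    (h : IsPullback fst snd g f) (hX : IsAlgSpace X) (hY : IsAlgSpace Y) (hZ : IsAlgSpace Z)
    (hf : IsEtaleMor f) : IsEtaleMor fst :=
  (isEtaleMor_iff_locP hZ).2 (locP_of_isPullback h hX hY hZ ((isEtaleMor_iff_locP hY).1 hf))

variable (h1 : IsLocalOnSource IsEtCover P) (h2 : IsLocalOnBase IsSmCover P)
  (h3 : ∀ ⦃X Y Z : AlgSp.Space S⦄ (f : X ⟶ Y) (j : Y ⟶ Z), P f.hom → RepWith @IsOpenImmersion j.hom → P (f ≫ j).hom)

include h1 in
theorem precomp_etale {X Y Z : Sp S} (hX : IsAlgSpace X) (hY : IsAlgSpace Y) (hZ : IsAlgSpace Z) (f : X ⟶ Y)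
    (g : Y ⟶ Z) (hf : IsEtaleMor f) (hg : P g) : P (f ≫ g) := by
  let Xi : ULift.{u} Bool → Sp S := fun i => if i.down then X else Y
  let c : ∀ i : ULift.{u} Bool, Xi i ⟶ Y := fun | ⟨true⟩ => f | ⟨false⟩ => 𝟙 Y
  have hc : IsEtCover Xi c := ⟨fun | ⟨true⟩ => hf | ⟨false⟩ => isEtaleMor_id' Y,
    fun y => ⟨⟨false⟩, y, AlgSp.Points.map_id y⟩⟩
  exact (h1 Xi c hY (fun | ⟨true⟩ => hX | ⟨false⟩ => hY) hc g hZ).1 hg ⟨true⟩

include h2 in
theorem baseChange_smooth {X Y X' Y' : Sp S} (hX : IsAlgSpace X) (hY : IsAlgSpace Y) (hX' : IsAlgSpace X')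
    (hY' : IsAlgSpace Y') (f : X ⟶ Y) (g : Y' ⟶ Y) (f' : X' ⟶ Y') (g' : X' ⟶ X) (sq : IsPullback g' f' f g)
    (hg : LocP @Smooth g) (hf : P f) : P f' := by
  obtain ⟨c, hc1, hc2, hc⟩ := smooth_cover_pair hY hg
  let Xi : ULift.{u} Bool → Sp S := fun i => if i.down then X' else X
  let p : ∀ i : ULift.{u} Bool, Xi i ⟶ if i.down then Y' else Y := fun | ⟨true⟩ => f' | ⟨false⟩ => f
  let q : ∀ i : ULift.{u} Bool, Xi i ⟶ X := fun | ⟨true⟩ => g' | ⟨false⟩ => 𝟙 X
  refine (h2 (ι := ULift.{u} Bool) (fun i => if i.down then Y' else Y) c hY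
    (fun | ⟨true⟩ => hY' | ⟨false⟩ => hY) hc f hX Xi p q
    (fun | ⟨true⟩ => hX' | ⟨false⟩ => hX) ?_).1 hf ⟨true⟩
  rintro ⟨_ | _⟩
  · rw [hc2]
    exact IsPullback.of_horiz_isIso (fst := 𝟙 X) (g := 𝟙 Y) ⟨by simp [p, q]⟩
  · rw [hc1]
    exact sq

include h1 h2 in
theorem cancel_etale {X Y Z : Sp S} (hX : IsAlgSpace X) (hY : IsAlgSpace Y) (hZ : IsAlgSpace Z) {f : X ⟶ Y}
    {g : Y ⟶ Z} (hg : IsEtaleMor g) (hfg : P (f ≫ g)) : P f := by
  have hW : IsAlgSpace (pullback (f ≫ g) g) := isAlgSpace_pullback hZ.diag hX hY _ _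
  have e1 : P (pullback.snd (f ≫ g) g) := baseChange_smooth h2 hX hZ hW hY (f ≫ g) g (pullback.snd _ _)
    (pullback.fst _ _) (IsPullback.of_hasPullback _ _) (locP_smooth_of_etaleMor hZ hg) hfg
  have e2 := precomp_etale h1 hX hW hY (pullback.lift (f := f ≫ g) (g := g) (𝟙 X) f (Category.id_comp _))
    (pullback.snd _ _)
    (isEtaleMor_of_section hX hW (p := pullback.fst (f ≫ g) g)
      (locP_of_isPullback (IsPullback.of_hasPullback (f ≫ g) g) hY hZ hX ((isEtaleMor_iff_locP hZ).1 hg))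
      (pullback.lift_fst _ _ _)) e1
  rwa [pullback.lift_snd] at e2

/-- `P` on morphisms of schemes with a structure map on the target. -/
def Qd (P : MorphismProperty (Sp S)) (A B : Scheme.{u}) (f : A ⟶ B) (b : B ⟶ S) : Prop :=
  P ((yon S).map (Over.homMk f : Over.mk (f ≫ b) ⟶ Over.mk b))

theorem qd_iff {A B : Over S} (g : A ⟶ B) : Qd P A.left B.left g.left B.hom ↔ P ((yon S).map g) := by
  have key : ∀ (s : A.left ⟶ S) (h : g.left ≫ B.hom = s),
      P ((yon S).map (Over.homMk g.left : Over.mk (g.left ≫ B.hom) ⟶ Over.mk B.hom)) ↔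
        P ((yon S).map (Over.homMk g.left h : Over.mk s ⟶ Over.mk B.hom)) := by
    intro s h
    subst h
    exact Iff.rfl
  exact key A.hom (Over.w g)

theorem surjective_points_ofScheme (T : Over S) (x : Points ((yon S).obj T)) :
    ∃ t, Points.ofScheme T t = x := ⟨_, Points.ofScheme_toScheme T x⟩

theorem mem_range_map_yon {A B : Over S} (g : A ⟶ B) {x : Points ((yon S).obj B)}
    (h : Points.toScheme B x ∈ Set.range g.left) : x ∈ Set.range (Points.map ((yon S).map g)) := by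
  obtain ⟨a, ha⟩ := h
  refine ⟨Points.ofScheme A a, ?_⟩
  rw [← Points.ofScheme_toScheme B x, ← ha]
  show Points.ofPt (𝟙 _ ≫ (yon S).map g) a = _
  rw [Category.id_comp, ← Points.ofScheme_toScheme B (Points.ofPt ((yon S).map g) a), Points.toScheme_ofPt]

include h1 h2 h3 in
theorem ax_qd : Ax (Qd P) where
  src {ι U A B} e he hs g b h := by
    let Uo : ι → Over S := fun i => Over.mk ((e i ≫ g) ≫ b)
    let eo : ∀ i, Uo i ⟶ Over.mk (g ≫ b) := fun i => Over.homMk (e i) (Category.assoc _ _ _).symm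
    refine (h1 (fun i => (yon S).obj (Uo i)) (fun i => (yon S).map (eo i)) (IsAlgSpace.yon_obj _)
      (fun i => IsAlgSpace.yon_obj _) ⟨fun i => (isEtaleMor_yon_map_iff _).2 (he i), fun x => ?_⟩ _
      (IsAlgSpace.yon_obj _)).2 fun i => ?_
    · obtain ⟨i, v, hv⟩ := hs (Points.toScheme _ x)
      exact ⟨i, mem_range_map_yon (eo i) ⟨v, hv⟩⟩
    · rw [← Functor.map_comp]
      exact (qd_iff (eo i ≫ (Over.homMk g : Over.mk (g ≫ b) ⟶ Over.mk b))).1 (h i)
  pre {A' A B} e he g b h := by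
    let eo : Over.mk ((e ≫ g) ≫ b) ⟶ Over.mk (g ≫ b) := Over.homMk e (Category.assoc _ _ _).symm
    have := precomp_etale h1 (IsAlgSpace.yon_obj _) (IsAlgSpace.yon_obj _) (IsAlgSpace.yon_obj _) _ _
      ((isEtaleMor_yon_map_iff eo).2 he) h
    rw [← Functor.map_comp] at this
    exact (qd_iff (eo ≫ (Over.homMk g : Over.mk (g ≫ b) ⟶ Over.mk b))).2 this
  bc {A' B' A B g' f' f g} sq hg b h := by
    let go : Over.mk (g ≫ b) ⟶ Over.mk b := Over.homMk g
    let g'o : Over.mk (f' ≫ g ≫ b) ⟶ Over.mk (f ≫ b) := Over.homMk g' (by simp [reassoc_of% sq.w])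
    let f'o : Over.mk (f' ≫ g ≫ b) ⟶ Over.mk (g ≫ b) := Over.homMk f'
    let fo : Over.mk (f ≫ b) ⟶ Over.mk b := Over.homMk f
    have sq' : IsPullback g'o f'o fo go := IsPullback.of_map (Over.forget S) (by ext; exact sq.w) sq
    exact baseChange_smooth h2 (IsAlgSpace.yon_obj _) (IsAlgSpace.yon_obj _) (IsAlgSpace.yon_obj _)
      (IsAlgSpace.yon_obj _) _ _ _ _ (isPullback_yon_map sq') (locP_of_repWith (repWith_yon_map hg)) h
  desc {A' B' A B g' f' f g} sq hg hgs b h := by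
    let go : Over.mk (g ≫ b) ⟶ Over.mk b := Over.homMk g
    let g'o : Over.mk (f' ≫ g ≫ b) ⟶ Over.mk (f ≫ b) := Over.homMk g' (by simp [reassoc_of% sq.w])
    let f'o : Over.mk (f' ≫ g ≫ b) ⟶ Over.mk (g ≫ b) := Over.homMk f'
    let fo : Over.mk (f ≫ b) ⟶ Over.mk b := Over.homMk f
    have sq' : IsPullback g'o f'o fo go := IsPullback.of_map (Over.forget S) (by ext; exact sq.w) sq
    refine (h2 (ι := PUnit.{u + 1}) (fun _ => (yon S).obj (Over.mk (g ≫ b))) (fun _ => (yon S).map go)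
      (IsAlgSpace.yon_obj _) (fun _ => IsAlgSpace.yon_obj _) ⟨fun _ => locP_of_repWith (repWith_yon_map hg),
        fun x => ⟨⟨⟩, mem_range_map_yon go (hgs.surj _)⟩⟩ _ (IsAlgSpace.yon_obj _)
      (fun _ => (yon S).obj (Over.mk (f' ≫ g ≫ b))) (fun _ => (yon S).map f'o) (fun _ => (yon S).map g'o)
      (fun _ => IsAlgSpace.yon_obj _) (fun _ => isPullback_yon_map sq')).2 fun _ => h
  post {A B B'} f j hj b h := by
    let fo : Over.mk (f ≫ j ≫ b) ⟶ Over.mk (j ≫ b) := Over.homMk f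
    let jo : Over.mk (j ≫ b) ⟶ Over.mk b := Over.homMk j
    have := h3 (X := ⟨_, IsAlgSpace.yon_obj (Over.mk (f ≫ j ≫ b))⟩) (Y := ⟨_, IsAlgSpace.yon_obj (Over.mk (j ≫ b))⟩)
      (Z := ⟨_, IsAlgSpace.yon_obj (Over.mk b)⟩) (ObjectProperty.homMk ((yon S).map fo))
      (ObjectProperty.homMk ((yon S).map jo)) h (repWith_yon_map hj)
    change P ((yon S).map fo ≫ (yon S).map jo) at this
    rw [← Functor.map_comp] at this
    exact (qd_iff (fo ≫ jo)).2 this

include h1 h2 h3 in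
/-- The main statement. -/
theorem etaleSmoothLocalST_of_local : IsEtaleSmoothLocalST P where
  precomp _ _ _ hX hY hZ f g hf hg := precomp_etale h1 hX hY hZ f g hf hg
  baseChange _ _ _ _ hX hY hX' hY' f g f' g' sq hg hf := baseChange_smooth h2 hX hY hX' hY' f g f' g' sq hg hf
  locality X Y hX hY f := by
    refine ⟨fun h x => ⟨Y, X, X, 𝟙 Y, 𝟙 X, f, 𝟙 X, x, hY, hX, hX, locP_id_of_isAlgSpace hY,
      IsPullback.of_horiz_isIso ⟨by simp⟩, isEtaleMor_id' _, by simp [AlgSp.Points.map_id], by simpa using h⟩,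
      fun H => ?_⟩
    obtain ⟨Y₀, qY, hqe, hqs⟩ := hY.atlas
    have hX₁ : IsAlgSpace (pullback f qY) := isAlgSpace_pullback hY.diag hX (IsAlgSpace.yon_obj _) _ _
    have hqS : LocP @Smooth qY := locP_smooth_of_etaleMor hY (isEtaleMor_of_repWith hqe)
    refine (h2 (ι := PUnit.{u + 1}) (fun _ => (yon S).obj Y₀) (fun _ => qY) hY (fun _ => IsAlgSpace.yon_obj _)
      ⟨fun _ => hqS, fun y => ⟨⟨⟩, surjective_map_of_repWith hqs y⟩⟩ f hX
      (fun _ => pullback f qY) (fun _ => pullback.snd f qY) (fun _ => pullback.fst f qY) (fun _ => hX₁)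
      (fun _ => IsPullback.of_hasPullback f qY)).2 fun _ => ?_
    obtain ⟨X₀, p₁, hpe, hps⟩ := hX₁.atlas
    refine (h1 (ι := PUnit.{u + 1}) (fun _ => (yon S).obj X₀) (fun _ => p₁) hX₁ (fun _ => IsAlgSpace.yon_obj _)
      ⟨fun _ => isEtaleMor_of_repWith hpe, fun y => ⟨⟨⟩, surjective_map_of_repWith hps y⟩⟩ _
      (IsAlgSpace.yon_obj _)).2 fun _ => ?_
    obtain ⟨g, hg⟩ := (yon S).map_surjective (p₁ ≫ pullback.snd f qY)
    rw [← hg]
    refine (qd_iff g).1 (of_local (ax_qd h1 h2 h3) g.left Y₀.hom fun t => ?_)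
    let r : (yon S).obj X₀ ⟶ X := p₁ ≫ pullback.fst f qY
    have hre : IsEtaleMor r := isEtaleMor_comp' (isEtaleMor_of_repWith hpe)
      (isEtaleMor_baseChange (IsPullback.of_hasPullback f qY) (IsAlgSpace.yon_obj _) hY hX (isEtaleMor_of_repWith hqe))
    have hrf : r ≫ f = (yon S).map g ≫ qY := by rw [hg]; simp [r, pullback.condition]
    obtain ⟨V, W, U, b, p, q, e, v, hV, hW, hU, hb, sqW, he, hv, hP⟩ := H (Points.ofPt r t)
    have hV₁ : IsAlgSpace (pullback b qY) := isAlgSpace_pullback hY.diag hV (IsAlgSpace.yon_obj _) _ _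
    obtain ⟨V₀, pV, hVe, hVs⟩ := hV₁.atlas
    obtain ⟨v₀, hv₀⟩ := (yon S).map_surjective (pV ≫ pullback.snd b qY)
    let bV : (yon S).obj V₀ ⟶ V := pV ≫ pullback.fst b qY
    have hbV : IsEtaleMor bV := isEtaleMor_comp' (isEtaleMor_of_repWith hVe)
      (isEtaleMor_baseChange (IsPullback.of_hasPullback b qY) (IsAlgSpace.yon_obj _) hY hV (isEtaleMor_of_repWith hqe))
    haveI hv₀s : Smooth v₀.left := by
      refine locP_yon_map (P := @Smooth) ?_
      rw [hv₀]
      exact locP_comp hV₁ (locP_smooth_of_etaleMor hV₁ (isEtaleMor_of_repWith hVe))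
        (locP_of_isPullback (IsPullback.of_hasPullback b qY).flip hV hY (IsAlgSpace.yon_obj _) hb)
    -- the scheme W₀ and its map to W
    let T₁ := pullback ((yon S).map g) (pullback.snd b qY)
    have hT₁ : IsAlgSpace T₁ := isAlgSpace_pullback (IsAlgSpace.yon_obj Y₀).diag (IsAlgSpace.yon_obj _) hV₁ _ _
    let a₁ : T₁ ⟶ V := pullback.snd ((yon S).map g) (pullback.snd b qY) ≫ pullback.fst b qY
    let k₁ : T₁ ⟶ W := sqW.lift (pullback.fst ((yon S).map g) (pullback.snd b qY) ≫ r) a₁ (by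
      simp only [a₁, Category.assoc, hrf, pullback.condition_assoc, pullback.condition])
    have sq₁ : IsPullback k₁ (pullback.fst ((yon S).map g) (pullback.snd b qY)) p r := by
      refine (IsPullback.of_bot (v₂₁ := q) (v₂₂ := f) (h₃₁ := b) ?_ (sqW.lift_fst _ _ _).symm sqW).flip
      rw [sqW.lift_snd, hrf]
      exact (IsPullback.of_hasPullback ((yon S).map g) (pullback.snd b qY)).paste_vert
        (IsPullback.of_hasPullback b qY).flip
    have hk₁ : IsEtaleMor k₁ := isEtaleMor_baseChange sq₁ (IsAlgSpace.yon_obj _) hX hW hre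
    have sqV : IsPullback (pullback.fst g v₀) (pullback.snd g v₀) g v₀ := IsPullback.of_hasPullback g v₀
    let W₀ := pullback g v₀
    let k₀ : (yon S).obj W₀ ⟶ T₁ := pullback.lift ((yon S).map (pullback.fst g v₀))
      ((yon S).map (pullback.snd g v₀) ≫ pV) (by
        rw [Category.assoc, ← hv₀, ← Functor.map_comp, ← Functor.map_comp, sqV.w])
    have sq₀ : IsPullback k₀ ((yon S).map (pullback.snd g v₀)) (pullback.snd ((yon S).map g) (pullback.snd b qY)) pV := by
      refine IsPullback.of_right ?_ (pullback.lift_snd _ _ _) (IsPullback.of_hasPullback ((yon S).map g) (pullback.snd b qY))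
      rw [pullback.lift_fst, ← hv₀]
      exact isPullback_yon_map sqV
    have hk₀ : IsEtaleMor k₀ := isEtaleMor_baseChange sq₀ (IsAlgSpace.yon_obj _) hV₁ hT₁ (isEtaleMor_of_repWith hVe)
    let k := k₀ ≫ k₁
    have hk : IsEtaleMor k := isEtaleMor_comp' hk₀ hk₁
    have hkq : k ≫ q = (yon S).map (pullback.snd g v₀) ≫ bV := by
      simp only [k, bV, Category.assoc, k₁, sqW.lift_snd, a₁, k₀, pullback.lift_snd_assoc]
    have hU₁ : IsAlgSpace (pullback e k) := isAlgSpace_pullback hW.diag hU (IsAlgSpace.yon_obj _) _ _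
    obtain ⟨U₀, pU, hUe, hUs⟩ := hU₁.atlas
    obtain ⟨e₀, he₀⟩ := (yon S).map_surjective (pU ≫ pullback.snd e k)
    have hUU : IsEtaleMor (pU ≫ pullback.fst e k) := isEtaleMor_comp' (isEtaleMor_of_repWith hUe)
      (isEtaleMor_baseChange (IsPullback.of_hasPullback e k) (IsAlgSpace.yon_obj _) hW hU hk)
    haveI : Etale e₀.left := by
      rw [← isEtaleMor_yon_map_iff, he₀]
      exact isEtaleMor_comp' (isEtaleMor_of_repWith hUe)
        (isEtaleMor_baseChange (IsPullback.of_hasPullback e k).flip hU hW (IsAlgSpace.yon_obj _) he)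
    have hP₀ : Qd P U₀.left V₀.left (e₀ ≫ pullback.snd g v₀).left V₀.hom := by
      refine (qd_iff _).2 (cancel_etale h1 h2 (IsAlgSpace.yon_obj _) (IsAlgSpace.yon_obj _) hV hbV ?_)
      rw [Functor.map_comp, Category.assoc, ← hkq, he₀, Category.assoc, ← pullback.condition_assoc, ← Category.assoc]
      exact precomp_etale h1 (IsAlgSpace.yon_obj _) hU hV _ (e ≫ q) hUU hP
    -- the point
    obtain ⟨ω₁, hω₁, hω₁'⟩ := points_exists_of_isPullback sq₁ (Points.map e v) (Points.ofScheme X₀ t) (by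
      rw [← Points.map_comp, hv]
      show _ = Points.ofPt (𝟙 _ ≫ r) t
      rw [Category.id_comp])
    obtain ⟨ω₂, hω₂⟩ := surjective_map_of_isPullback sq₀.flip (surjective_map_of_repWith hVs) ω₁
    obtain ⟨ω₃, -, hω₃⟩ := points_exists_of_isPullback (IsPullback.of_hasPullback e k) v ω₂ (by
      rw [Points.map_comp, hω₂, hω₁])
    obtain ⟨u, hu⟩ := surjective_ofPt hUs ω₃
    have hut : (e₀ ≫ pullback.fst g v₀).left u = t := by
      have h4 : Points.ofPt ((yon S).map (e₀ ≫ pullback.fst g v₀)) u = Points.ofScheme X₀ t := by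
        rw [Functor.map_comp, he₀, Category.assoc, ← Points.map_ofPt, hu, Points.map_comp, hω₃,
          show (yon S).map (pullback.fst g v₀) = k₀ ≫ pullback.fst _ _ from (pullback.lift_fst _ _ _).symm,
          Points.map_comp, hω₂, hω₁']
      have := congrArg (Points.toScheme X₀) h4
      rwa [Points.toScheme_ofPt, Points.toScheme_ofScheme] at this
    -- apply the scheme statement
    have sqL := isPullback_left sqV
    let el : U₀.left ⟶ pullback g.left v₀.left := e₀.left ≫ sqL.isoPullback.hom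
    have hel₂ : el ≫ pullback.snd g.left v₀.left = (e₀ ≫ pullback.snd g v₀).left := by simp [el]
    have hel₁ : el ≫ pullback.fst g.left v₀.left = (e₀ ≫ pullback.fst g v₀).left := by simp [el]
    obtain ⟨X', hX', hQX'⟩ := local_of_chart (ax_qd h1 h2 h3) g.left Y₀.hom v₀.left el (by
      rw [hel₂, Over.w v₀]; exact hP₀) u
    exact ⟨X', by rwa [hel₁, hut] at hX', hQX'⟩

end Groth.Agent.EtSmLib
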