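import Groth.Agent.EtSmLib.Ring

/-!
A property of morphisms of schemes which is etale local on the source, smooth local on the target and stable under
postcomposition with open immersions is etale-smooth local on source-and-target.
-/

set_option autoImplicit false
set_option backward.isDefEq.respectTransparency false
universe u

open CategoryTheory CategoryTheory.Limits AlgebraicGeometry TopologicalSpace MvPolynomial

noncomputable section

namespace Groth.Agent.EtSmLib

/-- The axioms, for a property of morphisms of schemes whose target lies over `S`. -/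
structure Ax {S : Scheme.{u}} (Q : ∀ A B : Scheme.{u}, (A ⟶ B) → (B ⟶ S) → Prop) : Prop where
  src : ∀ {ι : Type u} {U : ι → Scheme.{u}} {A B : Scheme.{u}} (e : ∀ i, U i ⟶ A), (∀ i, Etale (e i)) →
    (∀ a, ∃ i u, e i u = a) → ∀ (g : A ⟶ B) (b : B ⟶ S), (∀ i, Q (U i) B (e i ≫ g) b) → Q A B g b
  pre : ∀ {A' A B : Scheme.{u}} (e : A' ⟶ A), Etale e → ∀ (g : A ⟶ B) (b : B ⟶ S), Q A B g b → Q A' B (e ≫ g) b
  bc : ∀ {A' B' A B : Scheme.{u}} {g' : A' ⟶ A} {f' : A' ⟶ B'} {f : A ⟶ B} {g : B' ⟶ B},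
    IsPullback g' f' f g → Smooth g → ∀ (b : B ⟶ S), Q A B f b → Q A' B' f' (g ≫ b)
  desc : ∀ {A' B' A B : Scheme.{u}} {g' : A' ⟶ A} {f' : A' ⟶ B'} {f : A ⟶ B} {g : B' ⟶ B},
    IsPullback g' f' f g → Smooth g → Surjective g → ∀ (b : B ⟶ S), Q A' B' f' (g ≫ b) → Q A B f b
  post : ∀ {A B B' : Scheme.{u}} (f : A ⟶ B) (j : B ⟶ B'), IsOpenImmersion j → ∀ (b : B' ⟶ S),
    Q A B f (j ≫ b) → Q A B' (f ≫ j) b

variable {S : Scheme.{u}} {Q : ∀ A B : Scheme.{u}, (A ⟶ B) → (B ⟶ S) → Prop} (hQ : Ax Q)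

/-- A morphism factoring through a monomorphism is its own base change. -/
theorem isPullback_of_factor {A B' B : Scheme.{u}} {f : A ⟶ B} {f' : A ⟶ B'} {g : B' ⟶ B} [Mono g]
    (h : f' ≫ g = f) : IsPullback (𝟙 A) f' f g :=
  IsPullback.of_isLimit (PullbackCone.IsLimit.mk (by rw [Category.id_comp, h]) (fun s => s.fst)
    (fun s => Category.comp_id _)
    (fun s => by rw [← cancel_mono g, Category.assoc, h]; exact s.condition)
    fun s m h₁ _ => (Category.comp_id m).symm.trans h₁)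

/-- Restricting a cartesian square to opens. -/
theorem isPullback_restrict {A' B' A B : Scheme.{u}} {g' : A' ⟶ A} {f' : A' ⟶ B'} {f : A ⟶ B} {g : B' ⟶ B}
    (h : IsPullback g' f' f g) (U : A.Opens) :
    IsPullback (g' ∣_ U) ((g' ⁻¹ᵁ U).ι ≫ f') (U.ι ≫ f) g :=
  (isPullback_morphismRestrict g' U).paste_vert h

include hQ in
theorem restrict_target {A B : Scheme.{u}} (f : A ⟶ B) {B' : Scheme.{u}} (j : B' ⟶ B) [IsOpenImmersion j]
    (f' : A ⟶ B') (h : f' ≫ j = f) (b : B ⟶ S) (hf : Q A B f b) : Q A B' f' (j ≫ b) :=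
  hQ.bc (isPullback_of_factor h) inferInstance b hf

include hQ in
theorem pre_mono {A B : Scheme.{u}} (g : A ⟶ B) (b : B ⟶ S) {U V : A.Opens} (hUV : U ≤ V)
    (h : Q V B (V.ι ≫ g) b) : Q U B (U.ι ≫ g) b := by
  have := hQ.pre (A.homOfLE hUV) inferInstance _ b h
  rwa [← Category.assoc, Scheme.homOfLE_ι] at this

/-- At most `n` geometric points in each geometric fibre. -/
def Bound {V A : Scheme.{u}} (n : ℕ) (h : V ⟶ A) : Prop :=
  ∀ (K : Type u) [Field K] [IsAlgClosed K] (l : Fin (n + 1) → (Spec (CommRingCat.of K) ⟶ V)),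
    (∀ i j, l i ≫ h = l j ≫ h) → ∃ i j, i ≠ j ∧ l i = l j

include hQ in
/-- Postcomposition with etale morphisms of bounded degree. -/
theorem postcomp_bound (n : ℕ) : ∀ {O V A : Scheme.{u}} (p : O ⟶ V) (h : V ⟶ A), Etale h → IsSeparated h → Bound n h →
    ∀ (b : A ⟶ S), Q O V p (h ≫ b) → Q O A (p ≫ h) b := by
  induction n with
  | zero =>
    intro O V A p h _ _ hb b _
    refine hQ.src (ι := PEmpty.{u + 1}) (U := fun i => i.elim) (fun i => i.elim) (fun i => i.elim) (fun o => ?_) _ b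
      fun i => i.elim
    let ρ : Spec (CommRingCat.of (AlgebraicClosure (V.residueField (p o)))) ⟶ V :=
      Spec.map (CommRingCat.ofHom (algebraMap (V.residueField (p o)) _)) ≫ V.fromSpecResidueField (p o)
    obtain ⟨i, j, hij, -⟩ := hb _ (fun _ => ρ) (fun _ _ => rfl)
    exact absurd (Fin.ext (by omega)) hij
  | succ n ih =>
    intro O V A p h _ _ hb b hp
    let A₀ : A.Opens := ⟨Set.range h, h.isOpenMap.isOpen_range⟩
    let h₀ : V ⟶ A₀.toScheme := IsOpenImmersion.lift A₀.ι h (by rw [Scheme.Opens.range_ι]; rfl)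
    have hh₀ : h₀ ≫ A₀.ι = h := IsOpenImmersion.lift_fac _ _ _
    haveI : Etale (h₀ ≫ A₀.ι) := by rw [hh₀]; assumption
    haveI : Etale h₀ := MorphismProperty.of_postcomp @Etale h₀ A₀.ι (inferInstance : Etale A₀.ι) ‹Etale (h₀ ≫ A₀.ι)›
    haveI : IsSeparated (h₀ ≫ A₀.ι) := by rw [hh₀]; assumption
    haveI : IsSeparated h₀ := IsSeparated.of_comp h₀ A₀.ι
    haveI : Surjective h₀ := ⟨fun a => by
      obtain ⟨v, hv⟩ := a.2
      exact ⟨v, Subtype.ext (by rw [← hv, ← hh₀, Scheme.Hom.comp_apply]; rfl)⟩⟩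
    have hb₀ : Bound (n + 1) h₀ := fun K _ _ l hl => hb K l fun i j => by
      rw [← hh₀, reassoc_of% hl i j]
    rw [← hh₀, Category.assoc] at hp
    rw [← hh₀, ← Category.assoc]
    refine hQ.post _ _ inferInstance b ?_
    refine hQ.desc (IsPullback.of_hasPullback (p ≫ h₀) h₀) inferInstance ‹_› _ ?_
    let q : pullback (p ≫ h₀) h₀ ⟶ pullback h₀ h₀ :=
      pullback.lift (pullback.fst _ _ ≫ p) (pullback.snd _ _) (by rw [Category.assoc, pullback.condition])
    have hq₂ : q ≫ pullback.snd h₀ h₀ = pullback.snd (p ≫ h₀) h₀ := pullback.lift_snd _ _ _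
    have sq : IsPullback (pullback.fst (p ≫ h₀) h₀) q p (pullback.fst h₀ h₀) :=
      IsPullback.of_bot
        (by rw [hq₂]; exact IsPullback.of_hasPullback (p ≫ h₀) h₀)
        (by simp [q]) (IsPullback.of_hasPullback h₀ h₀)
    have hq : Q _ _ q (pullback.snd h₀ h₀ ≫ h₀ ≫ A₀.ι ≫ b) := by
      have := hQ.bc sq inferInstance _ hp
      rwa [pullback.condition_assoc] at this
    haveI : IsOpenImmersion (pullback.diagonal h₀) := inferInstance
    haveI : IsClosedImmersion (pullback.diagonal h₀) := inferInstance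
    let D := (pullback.diagonal h₀).opensRange
    let R : (pullback h₀ h₀).Opens := ⟨(Set.range (pullback.diagonal h₀))ᶜ,
      (pullback.diagonal h₀).isClosedEmbedding.isClosed_range.isOpen_compl⟩
    have hcov : ∀ w, w ∈ D ∨ w ∈ R := fun w => em (w ∈ Set.range (pullback.diagonal h₀))
    let U : ULift.{u} Bool → (pullback (p ≫ h₀) h₀).Opens := fun i => if i.down then q ⁻¹ᵁ D else q ⁻¹ᵁ R
    refine hQ.src (U := fun i => (U i).toScheme) (fun i => (U i).ι) (fun i => inferInstance) (fun a => ?_) _ _ ?_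
    · rcases hcov (q a) with ha | ha
      · exact ⟨⟨true⟩, ⟨a, ha⟩, rfl⟩
      · exact ⟨⟨false⟩, ⟨a, ha⟩, rfl⟩
    have hres : ∀ W : (pullback h₀ h₀).Opens,
        Q _ _ (q ∣_ W) (W.ι ≫ pullback.snd h₀ h₀ ≫ h₀ ≫ A₀.ι ≫ b) := fun W =>
      hQ.bc (isPullback_morphismRestrict q W).flip inferInstance _ hq
    have heq : ∀ W : (pullback h₀ h₀).Opens, (q ⁻¹ᵁ W).ι ≫ pullback.snd (p ≫ h₀) h₀ =
        (q ∣_ W) ≫ W.ι ≫ pullback.snd h₀ h₀ := fun W => by
      rw [morphismRestrict_ι_assoc, hq₂]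
    rintro ⟨_ | _⟩
    · show Q _ _ ((q ⁻¹ᵁ R).ι ≫ pullback.snd (p ≫ h₀) h₀) _
      rw [heq]
      refine ih (q ∣_ R) (R.ι ≫ pullback.snd h₀ h₀) inferInstance inferInstance ?_ _ ?_
      · intro K _ _ l hl
        let v := l 0 ≫ R.ι ≫ pullback.snd h₀ h₀
        have hv : ∀ i, (l i ≫ R.ι) ≫ pullback.snd h₀ h₀ = v := fun i => (Category.assoc _ _ _).trans (hl i 0)
        let l' : Fin (n + 2) → (Spec (CommRingCat.of K) ⟶ V) := Fin.cons v fun i => (l i ≫ R.ι) ≫ pullback.fst h₀ h₀
        have hl' : ∀ i, l' i ≫ h₀ = v ≫ h₀ := by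
          intro i
          cases i using Fin.cases with
          | zero => rfl
          | succ i =>
            simp only [l', Fin.cons_succ]
            rw [Category.assoc, pullback.condition, ← Category.assoc, hv]
        have hne : ∀ i, (l i ≫ R.ι) ≫ pullback.fst h₀ h₀ ≠ v := by
          intro i he
          have e : l i ≫ R.ι = v ≫ pullback.diagonal h₀ := by
            apply pullback.hom_ext
            · rw [he, Category.assoc, pullback.diagonal_fst, Category.comp_id]
            · rw [hv, Category.assoc, pullback.diagonal_snd, Category.comp_id]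
          have h1 : R.ι (l i (IsLocalRing.closedPoint K)) ∈ R := (l i (IsLocalRing.closedPoint K)).2
          rw [← Scheme.Hom.comp_apply, e, Scheme.Hom.comp_apply] at h1
          exact h1 ⟨_, rfl⟩
        obtain ⟨i, j, hij, he⟩ := hb₀ K l' fun i j => (hl' i).trans (hl' j).symm
        cases i using Fin.cases with
        | zero =>
          cases j using Fin.cases with
          | zero => exact absurd rfl hij
          | succ j => exact absurd (by simpa [l'] using he.symm) (hne j)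
        | succ i =>
          cases j using Fin.cases with
          | zero => exact absurd (by simpa [l'] using he) (hne i)
          | succ j =>
            refine ⟨i, j, fun e => hij (congrArg Fin.succ e), (cancel_mono R.ι).1 ?_⟩
            apply pullback.hom_ext
            · simpa [l'] using he
            · rw [hv, hv]
      · rw [Category.assoc]
        exact hres R
    · show Q _ _ ((q ⁻¹ᵁ D).ι ≫ pullback.snd (p ≫ h₀) h₀) _
      rw [heq]
      haveI : IsOpenImmersion (D.ι ≫ pullback.snd h₀ h₀) := by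
        have e : D.ι ≫ pullback.snd h₀ h₀ = (pullback.diagonal h₀).isoOpensRange.inv := by
          rw [← cancel_epi (pullback.diagonal h₀).isoOpensRange.hom,
            Scheme.Hom.isoOpensRange_hom_ι_assoc, Iso.hom_inv_id, pullback.diagonal_snd]
        rw [e]; infer_instance
      refine hQ.post (q ∣_ D) (D.ι ≫ pullback.snd h₀ h₀) ‹_› _ ?_
      rw [Category.assoc]
      exact hres D

include hQ in
/-- Descent along an etale morphism onto its image. -/
theorem of_etale_image {U A B : Scheme.{u}} (e : U ⟶ A) [Etale e] (g : A ⟶ B) (b : B ⟶ S) (h : Q U B (e ≫ g) b) :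
    ∃ O : A.Opens, (∀ u, e u ∈ O) ∧ Q O B (O.ι ≫ g) b := by
  let O : A.Opens := ⟨Set.range e, e.isOpenMap.isOpen_range⟩
  let e₀ : U ⟶ O.toScheme := IsOpenImmersion.lift O.ι e (by rw [Scheme.Opens.range_ι]; rfl)
  have he : e₀ ≫ O.ι = e := IsOpenImmersion.lift_fac _ _ _
  haveI : Etale (e₀ ≫ O.ι) := by rw [he]; assumption
  haveI : Etale e₀ := MorphismProperty.of_postcomp @Etale e₀ O.ι (inferInstance : Etale O.ι) ‹Etale (e₀ ≫ O.ι)›
  refine ⟨O, fun u => ⟨u, rfl⟩, hQ.src (ι := PUnit.{u + 1}) (fun _ => e₀) (fun _ => ‹_›) (fun a => ?_) _ b fun _ => ?_⟩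
  · obtain ⟨u, hu⟩ := a.2
    refine ⟨⟨⟩, u, Subtype.ext ?_⟩
    rw [← hu, ← he, Scheme.Hom.comp_apply]; rfl
  · rwa [reassoc_of% he]

/-- The polynomial ring, in `CommRingCat`. -/
abbrev poly (σ : Type) (R : CommRingCat.{u}) : CommRingCat.{u} := CommRingCat.of (MvPolynomial σ R)

/-- The structure map of affine space. -/
abbrev polyC (σ : Type) (R : CommRingCat.{u}) : R ⟶ poly σ R :=
  CommRingCat.ofHom (MvPolynomial.C : R →+* MvPolynomial σ R)

/-- Change of coefficients. -/
abbrev polyMap (σ : Type) {A B : CommRingCat.{u}} (φ : B ⟶ A) : poly σ B ⟶ poly σ A :=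
  CommRingCat.ofHom (MvPolynomial.map φ.hom)

theorem isPullback_poly_algebra (σ : Type) (B A : Type u) [CommRing B] [CommRing A] [Algebra B A] :
    IsPullback (Spec.map (polyC σ (CommRingCat.of A))) (Spec.map (polyMap σ (CommRingCat.ofHom (algebraMap B A))))
      (Spec.map (CommRingCat.ofHom (algebraMap B A))) (Spec.map (polyC σ (CommRingCat.of B))) := by
  letI : Algebra (MvPolynomial σ B) (MvPolynomial σ A) := MvPolynomial.algebraMvPolynomial
  exact isPullback_SpecMap_of_isPushout _ _ _ _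
    ((CommRingCat.isPushout_iff_isPushout (R := B) (S := A)
      (R' := MvPolynomial σ B) (S' := MvPolynomial σ A)).2 inferInstance).flip

theorem isPullback_poly (σ : Type) {A B : CommRingCat.{u}} (φ : B ⟶ A) :
    IsPullback (Spec.map (polyC σ A)) (Spec.map (polyMap σ φ)) (Spec.map φ) (Spec.map (polyC σ B)) :=
  letI := φ.hom.toAlgebra
  isPullback_poly_algebra σ B A

theorem smooth_polyC (σ : Type) [Finite σ] (R : CommRingCat.{u}) : Smooth (Spec.map (polyC σ R)) := by
  rw [HasRingHomProperty.Spec_iff (P := @Smooth)]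
  show (MvPolynomial.C : R →+* MvPolynomial σ R).Smooth
  rw [← MvPolynomial.algebraMap_eq, RingHom.smooth_algebraMap]
  exact ⟨inferInstance, inferInstance⟩

include hQ in
/-- A good open of affine space over `f` makes `f` good below it. -/
theorem descend_affineSpace {A B : CommRingCat.{u}} (φ : B ⟶ A) (b : Spec B ⟶ S) {n : ℕ}
    (O : (Spec (poly (Fin n) A)).Opens)
    (hO : Q _ _ (O.ι ≫ Spec.map (polyMap (Fin n) φ)) (Spec.map (polyC (Fin n) B) ≫ b))
    (o : Spec (poly (Fin n) A)) (ho : o ∈ O) :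
    ∃ X' : (Spec A).Opens, Spec.map (polyC (Fin n) A) o ∈ X' ∧ Q X' _ (X'.ι ≫ Spec.map φ) b := by
  classical
  obtain ⟨_, ⟨g, rfl⟩, hgo, hgO⟩ :=
    PrimeSpectrum.isTopologicalBasis_basic_opens.exists_subset_of_mem_open (a := o) ho O.2
  have hg0 : g ∉ o.asIdeal := hgo
  obtain ⟨m, hm⟩ : ∃ m, MvPolynomial.C (g.coeff m) ∉ o.asIdeal := by
    by_contra hcon
    push Not at hcon
    refine hg0 ?_
    rw [g.as_sum]
    refine Ideal.sum_mem _ fun m _ => ?_
    rw [show monomial m (g.coeff m) = C (g.coeff m) * monomial m 1 by simp [C_mul_monomial]]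
    exact Ideal.mul_mem_right _ _ (hcon m)
  let τ := Option (Fin n)
  let N := g.totalDegree + 1
  let D : (Spec (poly τ B)).Opens := PrimeSpectrum.basicOpen (sep B n N)
  let X' : (Spec A).Opens := PrimeSpectrum.basicOpen (g.coeff m)
  refine ⟨X', hm, ?_⟩
  let pA := Spec.map (polyC τ A)
  let mT := Spec.map (polyMap τ φ)
  let T' : (Spec (poly τ A)).Opens := pA ⁻¹ᵁ X' ⊓ mT ⁻¹ᵁ D
  haveI hsτ : Smooth (Spec.map (polyC τ B)) := smooth_polyC τ B
  -- the translations
  have hE : ∀ j : Fin n → ℕ,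
      Q _ _ ((Spec.map (CommRingCat.ofHom (shift A j).toRingHom) ⁻¹ᵁ O).ι ≫ mT) (Spec.map (polyC τ B) ≫ b) := by
    intro j
    let ψA : poly (Fin n) A ⟶ poly τ A := CommRingCat.ofHom (shift A j).toRingHom
    let ψB : poly (Fin n) B ⟶ poly τ B := CommRingCat.ofHom (shift B j).toRingHom
    have hCA : polyC (Fin n) A ≫ ψA = polyC τ A := CommRingCat.hom_ext (RingHom.ext fun x => (shift A j).commutes x)
    have hCB : polyC (Fin n) B ≫ ψB = polyC τ B := CommRingCat.hom_ext (RingHom.ext fun x => (shift B j).commutes x)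
    have hcomm : ψB ≫ polyMap τ φ = polyMap (Fin n) φ ≫ ψA := by
      refine CommRingCat.hom_ext (MvPolynomial.ringHom_ext (fun x => ?_) fun i => ?_)
      · show MvPolynomial.map φ.hom (shift B j (C x)) = shift A j (MvPolynomial.map φ.hom (C x))
        rw [map_C, show shift B j (C x) = C x from (shift B j).commutes x,
          show shift A j (C (φ.hom x)) = C (φ.hom x) from (shift A j).commutes _, map_C]
      · show MvPolynomial.map φ.hom (shift B j (X i)) = shift A j (MvPolynomial.map φ.hom (X i))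
        rw [map_X, show shift B j (X i) = X (some i) + X none ^ j i from aeval_X _ i,
          show shift A j (X i) = X (some i) + X none ^ j i from aeval_X _ i, map_add, map_pow, map_X, map_X]
    have outer : IsPullback (Spec.map ψA ≫ Spec.map (polyC (Fin n) A)) mT (Spec.map φ)
        (Spec.map ψB ≫ Spec.map (polyC (Fin n) B)) := by
      rw [← Spec.map_comp, ← Spec.map_comp, hCA, hCB]
      exact isPullback_poly τ φ
    have left : IsPullback (Spec.map ψA) mT (Spec.map (polyMap (Fin n) φ)) (Spec.map ψB) :=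
      IsPullback.of_right outer (by rw [← Spec.map_comp, ← Spec.map_comp, hcomm]) (isPullback_poly (Fin n) φ)
    have hs : Smooth (Spec.map ψB) := by
      rw [HasRingHomProperty.Spec_iff (P := @Smooth)]
      exact smooth_shift B j
    have := hQ.bc (isPullback_restrict left O) hs _ hO
    rwa [← Category.assoc, ← Spec.map_comp, hCB] at this
  have hT : Q _ _ (T'.ι ≫ mT) (Spec.map (polyC τ B) ≫ b) := by
    let E : (Fin n → Fin N) → (Spec (poly τ A)).Opens := fun j =>
      Spec.map (CommRingCat.ofHom (shift A fun i => (j i : ℕ)).toRingHom) ⁻¹ᵁ O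
    let U : ULift.{u} (Fin n → Fin N) → (Spec (poly τ A)).Opens := fun j => T' ⊓ E j.down
    refine hQ.src (U := fun j => (U j).toScheme) (fun j => (Spec (poly τ A)).homOfLE inf_le_left)
      (fun j => inferInstance) (fun a => ?_) _ _ fun j => ?_
    · obtain ⟨⟨p, hp⟩, ha⟩ : ∃ p : T', p = a := ⟨a, rfl⟩
      let κ := p.asIdeal.ResidueField
      let ψ : MvPolynomial τ A →+* κ := algebraMap _ κ
      have hzero : ∀ x, ψ x = 0 ↔ x ∈ p.asIdeal := fun x => Ideal.algebraMap_residueField_eq_zero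
      have hc : ψ (C (g.coeff m)) ≠ 0 := fun h => hp.1 ((hzero _).1 h)
      have hsep : ψ (sep A n N) ≠ 0 := fun h => by
        refine hp.2 ?_
        show (MvPolynomial.map φ.hom) (sep B n N) ∈ p.asIdeal
        rw [map_sep]
        exact (hzero _).1 h
      obtain ⟨j, hj⟩ := exists_shift_ne_zero A ψ g m hc hsep
      have hmem : p ∈ E j := hgO (show _ ∈ PrimeSpectrum.basicOpen g from fun h => hj ((hzero _).2 h))
      refine ⟨⟨j⟩, ⟨p, hp, hmem⟩, Subtype.ext ?_⟩
      rw [← ha]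
      exact Scheme.homOfLE_apply (inf_le_left : (U ⟨j⟩) ≤ T') _
    · rw [← Category.assoc, Scheme.homOfLE_ι]
      exact pre_mono hQ _ _ inf_le_right (hE _)
  obtain ⟨f', hf'⟩ : ∃ f' : T'.toScheme ⟶ D.toScheme, f' ≫ D.ι = T'.ι ≫ mT :=
    ⟨IsOpenImmersion.lift D.ι (T'.ι ≫ mT) (by
      rw [Scheme.Opens.range_ι]
      rintro _ ⟨t, rfl⟩
      exact t.2.2), IsOpenImmersion.lift_fac _ _ _⟩
  have hD : Q _ _ f' ((D.ι ≫ Spec.map (polyC τ B)) ≫ b) := by
    rw [Category.assoc]
    exact restrict_target hQ _ D.ι f' hf' _ hT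
  obtain ⟨g', hg'⟩ : ∃ g' : T'.toScheme ⟶ X'.toScheme, g' ≫ X'.ι = T'.ι ≫ pA :=
    ⟨IsOpenImmersion.lift X'.ι (T'.ι ≫ pA) (by
      rw [Scheme.Opens.range_ι]
      rintro _ ⟨t, rfl⟩
      exact t.2.1), IsOpenImmersion.lift_fac _ _ _⟩
  have sq : IsPullback g' f' (X'.ι ≫ Spec.map φ) (D.ι ≫ Spec.map (polyC τ B)) := by
    refine IsPullback.of_isLimit (PullbackCone.IsLimit.mk ?_ (fun c => ?_) (fun c => ?_) (fun c => ?_) fun c m h₁ h₂ => ?_)
    · rw [reassoc_of% hg', reassoc_of% hf', (isPullback_poly τ φ).w]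
    · refine IsOpenImmersion.lift T'.ι ((isPullback_poly τ φ).lift (c.fst ≫ X'.ι) (c.snd ≫ D.ι)
        (by simpa only [Category.assoc] using c.condition)) ?_
      rw [Scheme.Opens.range_ι]
      rintro _ ⟨t, rfl⟩
      refine ⟨?_, ?_⟩
      · show pA _ ∈ X'
        rw [← Scheme.Hom.comp_apply, IsPullback.lift_fst, Scheme.Hom.comp_apply]
        exact (c.fst t).2
      · show mT _ ∈ D
        rw [← Scheme.Hom.comp_apply, IsPullback.lift_snd, Scheme.Hom.comp_apply]
        exact (c.snd t).2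
    · rw [← cancel_mono X'.ι, Category.assoc, hg', IsOpenImmersion.lift_fac_assoc, IsPullback.lift_fst]
    · rw [← cancel_mono D.ι, Category.assoc, hf', IsOpenImmersion.lift_fac_assoc, IsPullback.lift_snd]
    · rw [← cancel_mono T'.ι, IsOpenImmersion.lift_fac]
      apply (isPullback_poly τ φ).hom_ext
      · rw [IsPullback.lift_fst, Category.assoc, ← hg', reassoc_of% h₁]
      · rw [IsPullback.lift_snd, Category.assoc, ← hf', reassoc_of% h₂]
  refine hQ.desc sq inferInstance ⟨fun y => ?_⟩ b hD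
  obtain ⟨q₀, hq₀⟩ : ∃ q₀ : PrimeSpectrum (MvPolynomial (Fin n) B),
      PrimeSpectrum.comap (C : B →+* MvPolynomial (Fin n) B) q₀ = y := by
    refine ⟨PrimeSpectrum.comap constantCoeff y, ?_⟩
    rw [← PrimeSpectrum.comap_comp_apply,
      show (constantCoeff : MvPolynomial (Fin n) B →+* B).comp C = RingHom.id _ from RingHom.ext fun r => constantCoeff_C _ r]
    exact PrimeSpectrum.ext (Ideal.comap_id _)
  obtain ⟨p₀, hp₀, hp₀'⟩ := surjective_comap_sep B N q₀
  refine ⟨⟨p₀, hp₀⟩, ?_⟩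
  rw [Scheme.Hom.comp_apply]
  show PrimeSpectrum.comap (C : B →+* MvPolynomial τ B) p₀ = y
  rw [← hq₀, ← hp₀', ← PrimeSpectrum.comap_comp_apply]
  exact congrArg (fun ψ => PrimeSpectrum.comap ψ p₀) (RingHom.ext fun x => (rename_C some x).symm)

theorem bound_of_standardEtale {P C : Type u} [CommRing P] [CommRing C] [Algebra P C] [Algebra.IsStandardEtale P C] :
    ∃ n, Bound n (Spec.map (CommRingCat.ofHom (algebraMap P C))) := by
  obtain ⟨E⟩ : Nonempty (StandardEtalePresentation P C) := inferInstance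
  refine ⟨E.P.f.natDegree, fun K _ _ l hl => ?_⟩
  classical
  by_contra hcon
  push Not at hcon
  let ψ : Fin (E.P.f.natDegree + 1) → (C →+* K) := fun i => (Spec.preimage (l i)).hom
  let a : P →+* K := (ψ 0).comp (algebraMap P C)
  have ha : ∀ i, (ψ i).comp (algebraMap P C) = a := fun i => by
    have h := congrArg Spec.preimage (hl i 0)
    have e : ∀ i, Spec.preimage (l i ≫ Spec.map (CommRingCat.ofHom (algebraMap P C))) =
        CommRingCat.ofHom (algebraMap P C) ≫ Spec.preimage (l i) := fun i =>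
      Spec.map_injective (by simp)
    rw [e, e] at h
    exact congrArg CommRingCat.Hom.hom h
  let f := E.P.f.map a
  have hroot : ∀ i, ψ i E.x ∈ f.roots.toFinset := fun i => by
    rw [Multiset.mem_toFinset, Polynomial.mem_roots (E.P.monic_f.map a).ne_zero, Polynomial.IsRoot,
      Polynomial.eval_map, ← ha i, ← Polynomial.hom_eval₂, ← Polynomial.aeval_def, E.hasMap.1, map_zero]
  have hinj : Function.Injective fun i => ψ i E.x := fun i j hij => by
    by_contra hne
    letI := a.toAlgebra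
    let χ : Fin (E.P.f.natDegree + 1) → (C →ₐ[P] K) := fun i =>
      { ψ i with commutes' := fun r => congrFun (congrArg DFunLike.coe (ha i)) r }
    have h1 : χ i = χ j := E.hom_ext hij
    refine hcon i j hne ?_
    rw [← Spec.map_preimage (l i), ← Spec.map_preimage (l j)]
    exact congrArg Spec.map (CommRingCat.hom_ext (congrArg AlgHom.toRingHom h1))
  have h1 := Finset.card_le_card (show Finset.univ.image (fun i => ψ i E.x) ⊆ f.roots.toFinset from fun x hx => by
    simp only [Finset.mem_image, Finset.mem_univ, true_and] at hx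
    obtain ⟨i, rfl⟩ := hx
    exact hroot i)
  rw [Finset.card_image_of_injective _ hinj, Finset.card_univ, Fintype.card_fin] at h1
  have h2 := (f.roots.toFinset_card_le).trans f.card_roots'
  rw [E.P.monic_f.natDegree_map a] at h2
  omega

include hQ in
/-- A property of morphisms with the axioms is etale-smooth local on source-and-target. -/
theorem local_of_chart {U X Y V : Scheme.{u}} (f : X ⟶ Y) (b : Y ⟶ S) (v : V ⟶ Y) [Smooth v]
    (e : U ⟶ pullback f v) [Etale e] (hU : Q _ _ (e ≫ pullback.snd f v) (v ≫ b)) (u : U) :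
    ∃ X' : X.Opens, (e ≫ pullback.fst f v) u ∈ X' ∧ Q _ _ (X'.ι ≫ f) b := by
  obtain ⟨O, hOe, hO⟩ := of_etale_image hQ e (pullback.snd f v) (v ≫ b) hU
  let z := e u
  let x := pullback.fst f v z
  obtain ⟨Y₀, hY₀, hxY, -⟩ := exists_isAffineOpen_mem_and_subset (TopologicalSpace.Opens.mem_top (f x))
  obtain ⟨X₀, hX₀, hxX, hX₀Y⟩ := exists_isAffineOpen_mem_and_subset (U := f ⁻¹ᵁ Y₀) (x := x) hxY
  have hzv : pullback.snd f v z ∈ v ⁻¹ᵁ Y₀ := by
    show v (pullback.snd f v z) ∈ Y₀
    rw [← Scheme.Hom.comp_apply, ← pullback.condition, Scheme.Hom.comp_apply]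
    exact hxY
  obtain ⟨V₁, hV₁, hzV, hV₁Y⟩ := exists_isAffineOpen_mem_and_subset (U := v ⁻¹ᵁ Y₀) hzv
  let B := Γ(Y, Y₀)
  let A := Γ(X, X₀)
  let C₁ := Γ(V, V₁)
  let φ : B ⟶ A := f.appLE Y₀ X₀ hX₀Y
  letI : Algebra B C₁ := (v.appLE Y₀ V₁ hV₁Y).hom.toAlgebra
  haveI : Algebra.Smooth B C₁ :=
    HasRingHomProperty.appLE (P := @Smooth) v inferInstance ⟨Y₀, hY₀⟩ ⟨V₁, hV₁⟩ hV₁Y
  obtain ⟨z₁, hz₁⟩ : pullback.snd f v z ∈ Set.range hV₁.fromSpec := by rw [hV₁.range_fromSpec]; exact hzV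
  obtain ⟨g, hg, n, _, hst, hse⟩ :=
    Algebra.IsSmoothAt.exists_isStandardEtale_mvPolynomial (R := B) (S := C₁) (p := z₁.asIdeal)
  let C := Localization.Away g
  let j : Spec (CommRingCat.of C) ⟶ V := Spec.map (CommRingCat.ofHom (algebraMap C₁ C)) ≫ hV₁.fromSpec
  haveI : IsOpenImmersion (Spec.map (CommRingCat.ofHom (algebraMap C₁ C))) :=
    IsOpenImmersion.of_isLocalization g
  haveI : IsOpenImmersion j := inferInstanceAs (IsOpenImmersion (_ ≫ _))
  let η : Spec (CommRingCat.of C) ⟶ Spec (poly (Fin n) B) :=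
    Spec.map (CommRingCat.ofHom (algebraMap (MvPolynomial (Fin n) B) C))
  haveI : Etale η := by
    rw [HasRingHomProperty.Spec_iff (P := @Etale)]
    exact RingHom.etale_algebraMap.2 inferInstance
  obtain ⟨N, hN⟩ := bound_of_standardEtale (P := MvPolynomial (Fin n) B) (C := C)
  have hη : η ≫ Spec.map (polyC (Fin n) B) ≫ hY₀.fromSpec = j ≫ v := by
    rw [Category.assoc, ← hY₀.SpecMap_appLE_fromSpec v hV₁ hV₁Y, ← Category.assoc, ← Category.assoc, ← Spec.map_comp,
      ← Spec.map_comp]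
    congr 2
    refine CommRingCat.hom_ext (RingHom.ext fun r => ?_)
    exact (IsScalarTower.algebraMap_apply B (MvPolynomial (Fin n) B) C r).symm.trans
      (IsScalarTower.algebraMap_apply B C₁ C r)
  let mS := Spec.map (polyMap (Fin n) φ)
  let W := pullback mS η
  have sqW : IsPullback (pullback.fst mS η ≫ Spec.map (polyC (Fin n) A)) (pullback.snd mS η) (Spec.map φ)
      (η ≫ Spec.map (polyC (Fin n) B)) :=
    (IsPullback.of_hasPullback mS η).paste_horiz (isPullback_poly (Fin n) φ)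
  haveI : Mono hY₀.fromSpec := inferInstance
  have hφ : Spec.map φ ≫ hY₀.fromSpec = hX₀.fromSpec ≫ f := hY₀.SpecMap_appLE_fromSpec f hX₀ hX₀Y
  let k₀ : pullback (Spec.map φ) (η ≫ Spec.map (polyC (Fin n) B)) ⟶ pullback f v :=
    pullback.map _ _ _ _ hX₀.fromSpec j hY₀.fromSpec hφ (by rw [Category.assoc]; exact hη)
  haveI : IsOpenImmersion k₀ := inferInstanceAs (IsOpenImmersion (pullback.map _ _ _ _ _ _ _ _ _))
  let k : W ⟶ pullback f v := sqW.isoPullback.hom ≫ k₀
  have hk₂ : k ≫ pullback.snd f v = pullback.snd mS η ≫ j := by simp [k, k₀]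
  have hk₁ : k ≫ pullback.fst f v = (pullback.fst mS η ≫ Spec.map (polyC (Fin n) A)) ≫ hX₀.fromSpec := by
    simp [k, k₀]
  obtain ⟨w, hw⟩ : z ∈ Set.range k := by
    have h1 : z ∈ Set.range k₀ := by
      rw [Scheme.Pullback.range_map]
      refine ⟨?_, ?_⟩
      · show x ∈ Set.range hX₀.fromSpec
        rw [hX₀.range_fromSpec]; exact hxX
      · show pullback.snd f v z ∈ Set.range j
        obtain ⟨c, hc⟩ : z₁ ∈ Set.range (Spec.map (CommRingCat.ofHom (algebraMap C₁ C))) := by
          exact (PrimeSpectrum.localization_away_comap_range C g).ge hg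
        exact ⟨c, by rw [Scheme.Hom.comp_apply, hc]; exact hz₁⟩
    obtain ⟨w₀, hw₀⟩ := h1
    exact ⟨sqW.isoPullback.inv w₀, by rw [← hw₀, ← Scheme.Hom.comp_apply, Iso.inv_hom_id_assoc]⟩
  let OW : W.Opens := k ⁻¹ᵁ O
  let bB := hY₀.fromSpec ≫ b
  have h1 : Q _ _ (OW.ι ≫ pullback.snd mS η) (η ≫ Spec.map (polyC (Fin n) B) ≫ bB) := by
    have h2 := hQ.pre (k ∣_ O) (IsZariskiLocalAtTarget.restrict (P := @Etale) (f := k) inferInstance O) _ _ hO
    rw [morphismRestrict_ι_assoc, hk₂] at h2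
    have h3 := restrict_target hQ _ j (OW.ι ≫ pullback.snd mS η) (Category.assoc _ _ _) _ h2
    rwa [← reassoc_of% hη] at h3
  have h4 := postcomp_bound hQ N _ η inferInstance inferInstance hN _ h1
  rw [Category.assoc, ← pullback.condition, ← Category.assoc] at h4
  obtain ⟨O', hO'e, hO'⟩ := of_etale_image hQ (OW.ι ≫ pullback.fst mS η) mS _ h4
  have hwO : w ∈ OW := by show k w ∈ O; rw [hw]; exact hOe u
  obtain ⟨X', hxX', hX'⟩ := descend_affineSpace hQ φ bB O' hO' _ (hO'e ⟨w, hwO⟩)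
  have h5 := hQ.post _ hY₀.fromSpec inferInstance b hX'
  rw [Category.assoc, hφ] at h5
  let X'' : X.Opens := hX₀.fromSpec ''ᵁ X'
  refine ⟨X'', ?_, ?_⟩
  · refine ⟨_, hxX', ?_⟩
    show hX₀.fromSpec (Spec.map (polyC (Fin n) A) (pullback.fst mS η (OW.ι ⟨w, hwO⟩))) = _
    rw [show OW.ι ⟨w, hwO⟩ = w from rfl, ← Scheme.Hom.comp_apply, ← Scheme.Hom.comp_apply, ← Category.assoc, ← hk₁,
      Scheme.Hom.comp_apply, hw]
    rfl
  · refine hQ.src (ι := PUnit.{u + 1}) (fun _ => (hX₀.fromSpec.isoImage X').hom) (fun _ => inferInstance)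
      (fun a => ⟨⟨⟩, (hX₀.fromSpec.isoImage X').inv a, by rw [← Scheme.Hom.comp_apply, Iso.inv_hom_id]; rfl⟩) _ b
      fun _ => ?_
    rw [Scheme.Hom.isoImage_hom_ι_assoc]
    exact h5

include hQ in
theorem of_local {X Y : Scheme.{u}} (f : X ⟶ Y) (b : Y ⟶ S)
    (h : ∀ x, ∃ X' : X.Opens, x ∈ X' ∧ Q _ _ (X'.ι ≫ f) b) : Q X Y f b := by
  choose X' hx hX' using h
  exact hQ.src (U := fun x => (X' x).toScheme) (fun x => (X' x).ι) (fun x => inferInstance)
    (fun x => ⟨x, ⟨x, hx x⟩, rfl⟩) f b hX'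

end Groth.Agent.EtSmLib
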