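import Mathlib

/-!
Translations of affine space by powers of one coordinate: the rings and the grid lemma.
-/

set_option autoImplicit false
universe u

open MvPolynomial

noncomputable section

namespace Groth.Agent.EtSmLib

variable (R : Type u) [CommRing R] {n : ℕ}

/-- The translation `t_i ↦ t_i + w ^ j_i` of affine space with one auxiliary coordinate `w`. -/
def shift (j : Fin n → ℕ) : MvPolynomial (Fin n) R →ₐ[R] MvPolynomial (Option (Fin n)) R :=
  aeval fun i => X (some i) + X none ^ j i

/-- The translations as automorphisms. -/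
def shiftEquiv (j : Fin n → ℕ) : MvPolynomial (Option (Fin n)) R ≃ₐ[R] MvPolynomial (Option (Fin n)) R :=
  AlgEquiv.ofAlgHom (aeval fun o => o.elim (X none) fun i => X (some i) + X none ^ j i)
    (aeval fun o => o.elim (X none) fun i => X (some i) - X none ^ j i)
    (algHom_ext fun o => by cases o <;> simp) (algHom_ext fun o => by cases o <;> simp)

theorem shift_eq (j : Fin n → ℕ) :
    shift R j = (shiftEquiv R j).toAlgHom.comp (rename some) :=
  algHom_ext fun i => by simp [shift, shiftEquiv]

theorem rename_some_eq :
    (rename some : MvPolynomial (Fin n) R →ₐ[R] MvPolynomial (Option (Fin n)) R).toRingHom =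
      (optionEquivLeft R (Fin n)).symm.toRingEquiv.toRingHom.comp Polynomial.C := by
  apply MvPolynomial.ringHom_ext <;> intro x
  · simp [optionEquivLeft_symm_C_C]
  · simp [optionEquivLeft_symm_C_X]

theorem smooth_shift (j : Fin n → ℕ) : (shift R j).toRingHom.Smooth := by
  have h1 : (Polynomial.C : MvPolynomial (Fin n) R →+* Polynomial (MvPolynomial (Fin n) R)).Smooth := by
    rw [← Polynomial.algebraMap_eq, RingHom.smooth_algebraMap]
    exact ⟨inferInstance, inferInstance⟩
  rw [shift_eq]
  have e : ((shiftEquiv R j).toAlgHom.comp (rename some)).toRingHom =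
      (((optionEquivLeft R (Fin n)).symm.trans (shiftEquiv R j)).toRingEquiv.toRingHom).comp Polynomial.C := by
    show ((shiftEquiv R j).toAlgHom.toRingHom).comp (rename some).toRingHom = _
    rw [rename_some_eq]
    rfl
  rw [e]
  exact h1.comp (RingHom.Smooth.of_bijective (RingEquiv.bijective _))

/-- The element cutting out coincidences of the powers of the auxiliary coordinate. -/
def sep (n N : ℕ) : MvPolynomial (Option (Fin n)) R :=
  ∏ p ∈ (Finset.range N ×ˢ Finset.range N).filter (fun p => p.1 < p.2), (X none ^ p.2 - X none ^ p.1)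

theorem map_sep {R' : Type u} [CommRing R'] (φ : R →+* R') (N : ℕ) : map φ (sep R n N) = sep R' n N := by
  simp [sep]

theorem ne_zero_apply_sep {K : Type u} [CommRing K] [IsDomain K] (ψ : MvPolynomial (Option (Fin n)) R →+* K) {N : ℕ}
    (h : ∀ a < N, ∀ b < N, a < b → ψ (X none) ^ b ≠ ψ (X none) ^ a) : ψ (sep R n N) ≠ 0 := by
  rw [sep, map_prod, Finset.prod_ne_zero_iff]
  intro p hp
  simp only [Finset.mem_filter, Finset.mem_product, Finset.mem_range] at hp
  rw [map_sub, map_pow, map_pow, sub_ne_zero]
  exact h _ hp.1.1 _ hp.1.2 hp.2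

theorem surjective_comap_sep (N : ℕ) (q : PrimeSpectrum (MvPolynomial (Fin n) R)) :
    ∃ p : PrimeSpectrum (MvPolynomial (Option (Fin n)) R),
      sep R n N ∉ p.asIdeal ∧ p.comap (rename some).toRingHom = q := by
  let κ := q.asIdeal.ResidueField
  let r : MvPolynomial (Fin n) R →+* κ := algebraMap _ κ
  let ψ : MvPolynomial (Option (Fin n)) R →+* Polynomial κ :=
    eval₂Hom (Polynomial.C.comp (r.comp C)) fun o => o.elim Polynomial.X fun i => Polynomial.C (r (X i))
  refine ⟨⟨RingHom.ker ψ, RingHom.ker_isPrime _⟩, ?_, ?_⟩
  · refine ne_zero_apply_sep R ψ fun a _ b _ hab he => ?_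
    have := congrArg Polynomial.natDegree he
    simp [ψ] at this
    omega
  · refine PrimeSpectrum.ext ?_
    rw [PrimeSpectrum.comap_asIdeal, RingHom.comap_ker,
      show ψ.comp (rename some).toRingHom = Polynomial.C.comp r from
        MvPolynomial.ringHom_ext (fun x => by simp [ψ]) (fun i => by simp [ψ]),
      RingHom.ker_comp_of_injective _ Polynomial.C_injective]
    exact Ideal.ker_algebraMap_residueField _

/-- A nonzero polynomial survives some translation by powers of `w`, once these powers are distinct. -/
theorem exists_shift_ne_zero {K : Type u} [CommRing K] [IsDomain K] (ψ : MvPolynomial (Option (Fin n)) R →+* K)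
    (g : MvPolynomial (Fin n) R) (m : Fin n →₀ ℕ) (hm : ψ (C (g.coeff m)) ≠ 0)
    (hsep : ψ (sep R n (g.totalDegree + 1)) ≠ 0) :
    ∃ j : Fin n → Fin (g.totalDegree + 1), ψ (shift R (fun i => (j i : ℕ)) g) ≠ 0 := by
  classical
  set N := g.totalDegree + 1 with hN
  by_contra hcon
  push Not at hcon
  let w := ψ (X none)
  let u : Fin n → K := fun i => ψ (X (some i))
  let gK := map (ψ.comp C) g
  have hinj : Function.Injective (fun a : Fin N => w ^ (a : ℕ)) := by
    intro a b hab
    by_contra hne
    rw [sep, map_prod, Finset.prod_ne_zero_iff] at hsep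
    rcases lt_or_gt_of_ne (Fin.val_ne_of_ne hne) with h | h
    · exact hsep (a, b) (by simp [h]) (by simp only [map_sub, map_pow]; exact sub_eq_zero.2 hab.symm)
    · exact hsep (b, a) (by simp [h]) (by simp only [map_sub, map_pow]; exact sub_eq_zero.2 hab)
  have h0 : gK = 0 := by
    refine MvPolynomial.eq_zero_of_eval_zero_at_prod_finset gK
      (fun i => Finset.univ.image fun a : Fin N => u i + w ^ (a : ℕ)) (fun i => ?_) fun x hx => ?_
    · rw [Finset.card_image_of_injective _ (fun a b hab => hinj (add_left_cancel hab)), Finset.card_univ,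
        Fintype.card_fin]
      have h1 : gK.degreeOf i ≤ g.degreeOf i := by
        rw [degreeOf_eq_sup, degreeOf_eq_sup]
        exact Finset.sup_mono (support_map_subset _ _)
      have h2 := degreeOf_le_totalDegree g i
      omega
    · simp only [Finset.mem_image, Finset.mem_univ, true_and] at hx
      choose a ha using hx
      have e : eval x gK = ψ (shift R (fun i => (a i : ℕ)) g) := by
        have : ((eval x).comp (map (ψ.comp C))) = ψ.comp (shift R (fun i => (a i : ℕ))).toRingHom := by
          refine MvPolynomial.ringHom_ext (fun r => by simp [shift]) fun i => ?_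
          simp [shift, ← ha i, u, w]
        exact congrArg (fun f : MvPolynomial (Fin n) R →+* K => f g) this
      rw [e]
      exact hcon a
  refine hm ?_
  have := congrArg (MvPolynomial.coeff m) h0
  simpa [gK, coeff_map] using this

end Groth.Agent.EtSmLib
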